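import Mathlib
import Cfsg.Agent.Base
import Cfsg.Prelude.Def_Classical
import Cfsg.Prelude.Def_Sz

/-! Groups without elements of order six: the two predicates. -/

set_option autoImplicit false

namespace H51.N6

/-- no element of order six -/
def N6 (G : Type*) [Group G] : Prop := ∀ g : G, orderOf g ≠ 6

/-- the conclusion of S3238 -/
def Concl (G : Type*) [Group G] : Prop :=
    (∃ (F : Type) (_ : Field F) (_ : Fintype F), Fintype.card F % 12 ≠ 1 ∧ Fintype.card F % 12 ≠ 11 ∧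
        Nonempty (G ≃* Matrix.ProjectiveSpecialLinearGroup (Fin 2) F)) ∨
      (∃ (F : Type) (_ : Field F) (_ : Fintype F) (n : ℕ), 2 ≤ n ∧ n % 6 ≠ 0 ∧ Fintype.card F = 2 ^ n ∧
        Nonempty (G ≃* Matrix.ProjectiveSpecialLinearGroup (Fin 3) F)) ∨
      (∃ (F : Type) (_ : Field F) (_ : Fintype F) (n : ℕ), 2 ≤ n ∧ n % 6 ≠ 3 ∧ Fintype.card F = (2 ^ n) ^ 2 ∧
        Nonempty (G ≃* Cfsg.PSU 3 F (2 ^ n))) ∨
      Cfsg.Lie.IsoSuzuki G

end H51.N6
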