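import Mathlib
import Cfsg.Agent.Base
import Cfsg.Agent.Lib.No6.Defs
import Cfsg.Agent.Lib.NGrp.Tools
import Cfsg.Agent.Lib.Odd.Fpf3
import Cfsg.Agent.Lib.Transfer.Control
import Cfsg.Agent.S3779

/-! Groups without elements of order six: elementary facts. -/

set_option autoImplicit false
set_option linter.style.haveILetI false
set_option linter.unusedSectionVars false
set_option linter.dupNamespace false

namespace H51.N6

open Subgroup H69 H70 H22 Cfsg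
open scoped commutatorElement

variable {G : Type*} [Group G]

theorem N6.of_inj {H : Type*} [Group H] (h : N6 G) (f : H →* G) (hf : Function.Injective f) :
    N6 H := fun g e => h (f g) (by rw [orderOf_injective f hf, e])

theorem N6.sub (h : N6 G) (K : Subgroup G) : N6 K := h.of_inj K.subtype K.subtype_injective

theorem N6.of_surj [Finite G] {H : Type*} [Group H] (h : N6 G) (f : G →* H)
    (hf : Function.Surjective f) : N6 H := fun y e => by
  obtain ⟨g, rfl⟩ := hf y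
  have hd : 6 ∣ orderOf g := e ▸ orderOf_map_dvd f g
  exact h (g ^ (orderOf g / 6)) (orderOf_pow_orderOf_div (orderOf_pos g).ne' hd)

theorem N6.sec [Finite G] (h : N6 G) {H : Subgroup G} {Γ : Type*} [Group Γ] (f : H →* Γ)
    (hf : Function.Surjective f) : N6 Γ := (h.sub H).of_surj f hf

theorem ord3 {x : G} (h1 : x ≠ 1) (h3 : x ^ 3 = 1) : orderOf x = 3 :=
  haveI := Fact.mk Nat.prime_three
  orderOf_eq_prime h3 h1

theorem ord2 {x : G} (h1 : x ≠ 1) (h2 : x * x = 1) : orderOf x = 2 :=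
  orderOf_eq_prime (by rwa [pow_two]) h1

theorem cube {x : G} (hx : orderOf x = 3) : x ^ 3 = 1 := hx ▸ pow_orderOf_eq_one x

theorem ne_one3 {x : G} (hx : orderOf x = 3) : x ≠ 1 := fun e => by simp [e] at hx

theorem sq2 {x : G} (hx : orderOf x = 2) : x * x = 1 := by
  rw [← pow_two, ← hx, pow_orderOf_eq_one]

theorem ne_one2 {x : G} (hx : orderOf x = 2) : x ≠ 1 := fun e => by simp [e] at hx

theorem odd3 {x : G} (hx : orderOf x = 3) : Odd (orderOf x) := by rw [hx]; decide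

theorem ord_conj (g x : G) : orderOf (g * x * g⁻¹) = orderOf x :=
  (MulAut.conj g).orderOf_eq x

theorem N6.inv_eq_one (h : N6 G) {x a : G} (hx : orderOf x = 3) (ha : a * a = 1)
    (hc : x * a = a * x) : a = 1 := by
  by_contra h1
  refine h (x * a) ?_
  rw [(show Commute x a from hc).orderOf_mul_eq_mul_orderOf_of_coprime
    (by rw [hx, ord2 h1 ha]; decide), hx, ord2 h1 ha]

theorem N6.eq_one (h : N6 G) {x a : G} (hx : orderOf x = 3) {k : ℕ} (ha : a ^ 2 ^ k = 1)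
    (hc : x * a = a * x) : a = 1 := by
  by_contra h1
  obtain ⟨j, j1, j2⟩ := H53.Odd.exists_pow_invol ha h1
  exact j1 (h.inv_eq_one hx j2 ((show Commute x a from hc).pow_right j))

theorem N6.fpf (h : N6 G) {x : G} (hx : orderOf x = 3) {Q : Subgroup G} (hQ : IsPGroup 2 Q) :
    ∀ k ∈ Q, x * k = k * x → k = 1 := fun k hk hc => by
  obtain ⟨n, hn⟩ := H69.isPGroup_iff_mem.1 hQ k hk
  exact h.eq_one hx hn hc

theorem N6.inf_cent (h : N6 G) {x : G} (hx : orderOf x = 3) {Q : Subgroup G} (hQ : IsPGroup 2 Q) :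
    Q ⊓ centralizer {x} = ⊥ :=
  eq_bot_iff.2 fun k hk => mem_bot.2 (h.fpf hx hQ k hk.1 (mem_centralizer_singleton_iff.1 hk.2).symm)

theorem exists_ord [Finite G] {p : ℕ} (hp : p.Prime) {K : Subgroup G} (h : p ∣ Nat.card K) :
    ∃ x ∈ K, orderOf x = p := by
  haveI := Fact.mk hp
  obtain ⟨x, hx⟩ := exists_prime_orderOf_dvd_card' (G := K) p h
  exact ⟨x, x.2, by rwa [orderOf_coe]⟩

theorem dvd_of_ord {K : Subgroup G} {x : G} {p : ℕ} (hx : x ∈ K) (h : orderOf x = p) :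
    p ∣ Nat.card K := h ▸ K.orderOf_dvd_natCard hx

/-- centralizers of nontrivial `2`-elements are `3'`-groups -/
theorem N6.not3 [Finite G] (h : N6 G) {K : Subgroup G} {a : G} {k : ℕ} (ha : a ^ 2 ^ k = 1)
    (h1 : a ≠ 1) (hK : ∀ g ∈ K, g * a = a * g) : ¬ 3 ∣ Nat.card K := fun hd => by
  obtain ⟨x, hx, h3⟩ := exists_ord Nat.prime_three hd
  exact h1 (h.eq_one h3 ha (hK x hx))

theorem N6.not3_cent [Finite G] (h : N6 G) {K Q : Subgroup G} (hQ : IsPGroup 2 Q) (h1 : Q ≠ ⊥)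
    (hK : K ≤ 𝐂(Q)) : ¬ 3 ∣ Nat.card K := by
  obtain ⟨a, ha, a1⟩ := exists_ne_one_of_ne_bot h1
  obtain ⟨n, hn⟩ := H69.isPGroup_iff_mem.1 hQ a ha
  exact h.not3 hn a1 fun g hg => (hK hg a ha).symm

theorem N6.odd_cent [Finite G] (h : N6 G) {K : Subgroup G} {x : G} (hx : orderOf x = 3)
    (hK : ∀ g ∈ K, x * g = g * x) : ¬ 2 ∣ Nat.card K := fun hd => by
  obtain ⟨a, ha, h2⟩ := exists_ord Nat.prime_two hd
  exact ne_one2 h2 (h.inv_eq_one hx (sq2 h2) (hK a ha))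

section F3

variable [Finite G] {Q : Subgroup G} {x : G}

theorem nrm_mem (hn : x ∈ 𝐍(Q)) : ∀ k ∈ Q, x * k * x⁻¹ ∈ Q := fun _ hk =>
  conj_mem_of_mem_normalizer hn hk

theorem N6.card_mod (h : N6 G) (hx : orderOf x = 3) (hQ : IsPGroup 2 Q) (hn : x ∈ 𝐍(Q)) :
    Nat.card Q % 3 = 1 :=
  haveI := Fact.mk Nat.prime_three
  H53.Odd.fpf_card_mod (cube hx) (nrm_mem hn) (h.fpf hx hQ)

theorem N6.ord_mul (h : N6 G) (hx : orderOf x = 3) (hQ : IsPGroup 2 Q) (hn : x ∈ 𝐍(Q)) {q : G}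
    (hq : q ∈ Q) : orderOf (q * x) = 3 := by
  refine ord3 (fun e => ?_) (H53.Odd.fpf_cube (cube hx) (nrm_mem hn) (h.fpf hx hQ) hq)
  have : x ∈ Q := by rw [← inv_inv x, ← eq_inv_of_mul_eq_one_left e]; exact Q.inv_mem hq
  exact ne_one3 hx (eq_one_of_odd hQ (odd3 hx) this)

theorem N6.cls2 (h : N6 G) (hx : orderOf x = 3) (hQ : IsPGroup 2 Q) (hn : x ∈ 𝐍(Q)) {a b c : G}
    (ha : a ∈ Q) (hb : b ∈ Q) (hc : c ∈ Q) : ⁅a, b⁆ * c = c * ⁅a, b⁆ := by
  let σ : MulAut Q := Q.normalizerMonoidHom ⟨x, hn⟩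
  have hf : ∀ g, σ g = g → g = 1 := fun g e => Subtype.ext (h.fpf hx hQ g g.2
    (mul_inv_eq_iff_eq_mul.1 (congrArg Subtype.val e :)))
  have h3 : σ ^ 3 = 1 := by
    rw [← map_pow, show (⟨x, hn⟩ : 𝐍(Q)) ^ 3 = 1 from Subtype.ext (cube hx), map_one]
  by_cases h1 : σ = 1
  · have : a = 1 := congrArg Subtype.val (hf ⟨a, ha⟩ (by simp [h1]))
    simp [this]
  have h2 := (Cfsg.Agent.S3779.result Nat.prime_three σ (ord3 h1 h3) hf).2.1 rfl
  have h4 : ⁅⁅(⟨a, ha⟩ : Q), (⟨b, hb⟩ : Q)⁆, (⟨c, hc⟩ : Q)⁆ ∈ (⊤ : Subgroup Q).lowerCentralSeries 2 :=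
    commutator_mem_commutator (commutator_mem_commutator (mem_top _) (mem_top _)) (mem_top _)
  rw [h2, mem_bot, commutatorElement_eq_one_iff_mul_comm] at h4
  exact congrArg Subtype.val h4

theorem cm_left {a b c : G} (h : ⁅b, c⁆ * a = a * ⁅b, c⁆) : ⁅a * b, c⁆ = ⁅b, c⁆ * ⁅a, c⁆ := by
  calc ⁅a * b, c⁆ = (a * ⁅b, c⁆) * a⁻¹ * ⁅a, c⁆ := by simp only [commutatorElement_def]; group
    _ = _ := by rw [← h]; group

theorem cm_right {a b c : G} (h : ⁅a, c⁆ * b = b * ⁅a, c⁆) : ⁅a, b * c⁆ = ⁅a, b⁆ * ⁅a, c⁆ := by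
  calc ⁅a, b * c⁆ = ⁅a, b⁆ * (b * ⁅a, c⁆) * b⁻¹ := by simp only [commutatorElement_def]; group
    _ = _ := by rw [← h]; group

theorem N6.cm_swap (h : N6 G) (hx : orderOf x = 3) (hQ : IsPGroup 2 Q) (hn : x ∈ 𝐍(Q)) {a b : G}
    (ha : a ∈ Q) (hb : b ∈ Q) : ⁅a, x * b * x⁻¹⁆ = ⁅x * a * x⁻¹, b⁆ := by
  have c0 : ∀ u ∈ Q, ⁅u, x * u * x⁻¹⁆ = 1 := fun u hu => commutatorElement_eq_one_iff_mul_comm.2
    (H53.Odd.fpf_comm (cube hx) (nrm_mem hn) (h.fpf hx hQ) hu)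
  have a' := nrm_mem hn a ha
  have b' := nrm_mem hn b hb
  have e := c0 _ (Q.mul_mem ha hb)
  rw [show x * (a * b) * x⁻¹ = (x * a * x⁻¹) * (x * b * x⁻¹) by group,
    cm_left (h.cls2 hx hQ hn hb (Q.mul_mem a' b') ha), cm_right (h.cls2 hx hQ hn hb b' a'),
    cm_right (h.cls2 hx hQ hn ha b' a'), c0 a ha, c0 b hb, mul_one, one_mul] at e
  rw [← commutatorElement_inv (x * a * x⁻¹)] at e
  exact (inv_mul_eq_one.1 e).symm

/-- centralizers in `Q` are `x`-invariant -/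
theorem N6.comm_conj (h : N6 G) (hx : orderOf x = 3) (hQ : IsPGroup 2 Q) (hn : x ∈ 𝐍(Q)) {a b : G}
    (ha : a ∈ Q) (hb : b ∈ Q) (hc : a * b = b * a) : a * (x * b * x⁻¹) = (x * b * x⁻¹) * a := by
  have a' := nrm_mem hn a ha
  have b' := nrm_mem hn b hb
  have e1 := h.cm_swap hx hQ hn ha hb
  have e2 := H53.Odd.fpf_norm (cube hx) (nrm_mem hn) (h.fpf hx hQ) hb
  have x3 : x * x = x⁻¹ := (H53.Odd.inv_eq_sq (cube hx)).symm
  have b'' : x⁻¹ * b * x ∈ Q := conj_mem_of_mem_normalizer' hn hb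
  set c := ⁅a, x * b * x⁻¹⁆ with hcd
  have cQ : c ∈ Q := comm_mem ha b'
  have e3 : x * c * x⁻¹ = ⁅x * a * x⁻¹, x⁻¹ * b * x⁆ := by
    have : x⁻¹ * b * x = x * (x * b * x⁻¹) * x⁻¹ := by
      calc x⁻¹ * b * x = (x * x) * b * (x * x)⁻¹ := by rw [x3]; group
        _ = _ := by group
    rw [this, hcd]; simp only [commutatorElement_def]; group
  have e4 : ⁅x * a * x⁻¹, x * b * x⁻¹⁆ = 1 := by
    rw [commutatorElement_eq_one_iff_mul_comm]
    calc _ = x * (a * b) * x⁻¹ := by group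
      _ = _ := by rw [hc]; group
  have e5 : c * (x * c * x⁻¹) = 1 := by
    have := congrArg (fun u => ⁅x * a * x⁻¹, u⁆) e2
    simp only [commutatorElement_one_right] at this
    rwa [cm_right (h.cls2 hx hQ hn a' b'' (Q.mul_mem hb b')), cm_right (h.cls2 hx hQ hn a' b' hb),
      e4, mul_one, ← e1, ← e3] at this
  have e6 : x * c * x⁻¹ = c⁻¹ := (eq_inv_of_mul_eq_one_right e5)
  have e7 : (x * x) * c = c * (x * x) := by
    have : x * c⁻¹ * x⁻¹ = c := by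
      calc x * c⁻¹ * x⁻¹ = (x * c * x⁻¹)⁻¹ := by group
        _ = c := by rw [e6, inv_inv]
    calc x * x * c = x * (x * c * x⁻¹) * x⁻¹ * (x * x) := by group
      _ = _ := by rw [e6, this]
  have : c = 1 := h.fpf (x := x⁻¹) (by rw [orderOf_inv, hx]) hQ c cQ (by rwa [← x3])
  exact commutatorElement_eq_one_iff_mul_comm.1 this

theorem N6.norm_cent (h : N6 G) (hx : orderOf x = 3) (hQ : IsPGroup 2 Q) (hn : x ∈ 𝐍(Q))
    {A : Subgroup G} (hA : A ≤ Q) : x ∈ 𝐍(Q ⊓ 𝐂(A)) := by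
  refine mem_normalizer_of_cj_le fun y hy => ?_
  obtain ⟨b, hb, rfl⟩ := mem_cj'.1 hy
  exact ⟨nrm_mem hn b hb.1, fun a ha => h.comm_conj hx hQ hn (hA ha) hb.1 (hb.2 a ha)⟩

/-- an `x`-invariant subgroup of index at most two is everything -/
theorem N6.le_of_le2 (h : N6 G) (hx : orderOf x = 3) (hQ : IsPGroup 2 Q) (hn : x ∈ 𝐍(Q))
    {A : Subgroup G} (hA : A ≤ Q) (hnA : x ∈ 𝐍(A)) (h2 : Le2 A Q) : Q ≤ A := by
  by_contra hc
  have e1 := h2.card_eq hc
  rw [inf_eq_left.2 hA] at e1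
  have e2 := h.card_mod hx hQ hn
  have e3 := h.card_mod hx (hQ.to_le hA) hnA
  omega

end F3

theorem card_mul_le [Finite G] {A B W : Subgroup G} (hA : A ≤ W) (hB : B ≤ W) (h : A ⊓ B = ⊥) :
    Nat.card A * Nat.card B ≤ Nat.card W := by
  rw [← Nat.card_prod]
  refine Nat.card_le_card_of_injective
    (fun p : A × B => (⟨p.1 * p.2, W.mul_mem (hA p.1.2) (hB p.2.2)⟩ : W)) fun p q e => ?_
  have e1 : (p.1 : G) * p.2 = q.1 * q.2 := congrArg Subtype.val e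
  have e2 : (q.1 : G)⁻¹ * p.1 = q.2 * (p.2 : G)⁻¹ := by
    calc (q.1 : G)⁻¹ * p.1 = (q.1 : G)⁻¹ * (p.1 * p.2) * (p.2 : G)⁻¹ := by group
      _ = _ := by rw [e1]; group
  have e3 : (q.1 : G)⁻¹ * p.1 ∈ A ⊓ B :=
    ⟨A.mul_mem (A.inv_mem q.1.2) p.1.2, e2 ▸ B.mul_mem q.2.2 (B.inv_mem p.2.2)⟩
  rw [h, mem_bot] at e3
  have e4 : (p.1 : G) = q.1 := (inv_mul_eq_one.1 e3).symm
  rw [e4] at e1
  exact Prod.ext (Subtype.ext e4) (Subtype.ext (mul_left_cancel e1))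

/-- an element inverting `x` modulo `Q` has small fixed points -/
theorem N6.sq_le [Finite G] (h : N6 G) {Q W : Subgroup G} {x a : G} (hx : orderOf x = 3)
    (hQ : IsPGroup 2 Q) (hn : x ∈ 𝐍(Q)) (hi : a * x * a⁻¹ * x ∈ Q) (hW : IsPGroup 2 W)
    (hxW : x ∈ 𝐍(W)) :
    Nat.card (W ⊓ centralizer {a} : Subgroup G) ^ 2 ≤ Nat.card W := by
  have h3 := h.ord_mul hx hQ hn hi
  have e : (W ⊓ centralizer {a}) ⊓ (W ⊓ centralizer {a}) ^ᶜ x = ⊥ := by
    refine eq_bot_iff.2 fun w hw => mem_bot.2 (h.fpf h3 hW w hw.1.1 ?_)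
    have c1 : Commute a w := (mem_centralizer_singleton_iff.1 hw.1.2).symm
    have c2 : Commute (x * a * x⁻¹) w := by
      have := mem_centralizer_singleton_iff.1 (mem_cj.1 hw.2).2
      change x * a * x⁻¹ * w = w * (x * a * x⁻¹)
      calc x * a * x⁻¹ * w = x * (a * (x⁻¹ * w * x)) * x⁻¹ := by group
        _ = _ := by rw [← this]; group
    have c3 : a * x * a⁻¹ * x * x = a * (x * a * x⁻¹)⁻¹ * x ^ 3 := by
      simp only [pow_succ, pow_zero]; group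
    rw [c3, cube hx, mul_one]
    exact c1.mul_left c2.inv_left
  have := card_mul_le (W := W) inf_le_left (cj_le_of_mem_normalizer inf_le_left hxW) e
  rwa [card_cj, ← pow_two] at this

/-- no elementary abelian group of order nine normalizes a nontrivial `2`-group -/
theorem N6.no9 [Finite G] (h : N6 G) {Q : Subgroup G} (hQ : IsPGroup 2 Q) (h1 : Q ≠ ⊥) {x y : G}
    (hx : orderOf x = 3) (hy : y ^ 3 = 1) (hc : x * y = y * x) (nx : x ∈ 𝐍(Q)) (ny : y ∈ 𝐍(Q)) :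
    y ∈ zpowers x := by
  haveI := Fact.mk Nat.prime_three
  by_contra hn
  let A : Subgroup G := closure {x, y}
  have hA : IsMulCommutative A := isMulCommutative_closure (by
    rintro a (rfl | rfl) b (rfl | rfl)
    exacts [rfl, hc, hc.symm, rfl])
  have xA : x ∈ A := subset_closure (by simp)
  have yA : y ∈ A := subset_closure (by simp)
  have e3 : ∀ a ∈ A, a ^ 3 = 1 := fun a ha => by
    induction ha using closure_induction with
    | mem a ha => rcases ha with rfl | rfl; exacts [cube hx, hy]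
    | one => simp
    | mul a b ha hb e1 e2 =>
      rw [(show Commute a b from congrArg Subtype.val (hA.is_comm.comm ⟨a, ha⟩ ⟨b, hb⟩)).mul_pow,
        e1, e2, one_mul]
    | inv a _ e => rw [inv_pow, e, inv_one]
  have p3 : IsPGroup 3 A := H69.isPGroup_iff_mem.2 fun a ha => ⟨1, by rw [pow_one, e3 a ha]⟩
  refine h1 (eq_bot_iff.2 (H2.le_of_forall_centralizer_le (A := A) hA (fun hcy => hn ?_)
    ((closure_le _).2 (by rintro a (rfl | rfl); exacts [nx, ny])) ?_ fun a ha a1 => ?_))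
  · obtain ⟨⟨g, hg⟩, hg'⟩ := hcy.exists_generator
    have c1 : Nat.card A ≤ 3 := by
      rw [← orderOf_eq_card_of_forall_mem_zpowers hg']
      exact orderOf_le_of_pow_eq_one (by norm_num) (Subtype.ext (e3 g hg))
    have c2 : zpowers x = A := eq_of_le_of_card_ge (zpowers_le.2 xA) (by
      rw [Nat.card_zpowers, hx]; exact c1)
    exact c2 ▸ yA
  · obtain ⟨n, hn⟩ := IsPGroup.iff_card.1 p3
    obtain ⟨m, hm⟩ := IsPGroup.iff_card.1 hQ
    rw [hn, hm]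
    exact Nat.Coprime.pow _ _ (by decide)
  · exact (h.inf_cent (ord3 a1 (e3 a ha)) hQ).le

/-- a `3`-group normalized by an element of even order gives an inverted element of order three -/
theorem N6.real0 [Finite G] (h : N6 G) {P : Subgroup G} (hP : IsPGroup 3 P) (h1 : P ≠ ⊥) {n : G}
    (hn : n ∈ 𝐍(P)) (h2 : 2 ∣ orderOf n) :
    ∃ x ∈ P, ∃ t ∈ zpowers n, orderOf x = 3 ∧ orderOf t = 2 ∧ t * x * t⁻¹ = x⁻¹ := by
  haveI := Fact.mk Nat.prime_three
  have ht := orderOf_pow_orderOf_div (orderOf_pos n).ne' h2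
  set t := n ^ (orderOf n / 2)
  obtain ⟨x, hx, h3⟩ := exists_orderOf_eq_prime hP h1
  refine ⟨x, hx, t, npow_mem_zpowers _ _, h3, ht, ?_⟩
  have tn : t ∈ 𝐍(P) := pow_mem hn _
  obtain ⟨k, hk, rfl⟩ := H53.Odd.fpf_surj (nrm_mem tn) (fun k hk hc => by
    by_contra k1
    obtain ⟨y, hy, y3⟩ := exists_orderOf_eq_prime (hP.to_le (zpowers_le.2 hk))
      (fun e => k1 (zpowers_eq_bot.1 e))
    obtain ⟨j, rfl⟩ := mem_zpowers_iff.1 hy
    exact ne_one2 ht (h.inv_eq_one y3 (sq2 ht) ((show Commute t k from hc).zpow_right j).symm)) hx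
  calc t * (k⁻¹ * (t * k * t⁻¹)) * t⁻¹ = t * k⁻¹ * t⁻¹ * ((t * t) * k * (t * t)⁻¹) := by group
    _ = _ := by rw [sq2 ht]; group

theorem even_of_inv [Finite G] {x t : G} (hx : orderOf x = 3) (h : t * x * t⁻¹ = x⁻¹) :
    2 ∣ orderOf t := by
  by_contra ho
  have h2 : t ∈ centralizer {x} := mem_of_sq_mem (Nat.odd_iff.2 (by omega))
    (mem_centralizer_singleton_iff.2 (by
      calc t ^ 2 * x = t * (t * x * t⁻¹) * t⁻¹ * t ^ 2 := by rw [pow_two]; group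
        _ = t * x⁻¹ * t⁻¹ * t ^ 2 := by rw [h]
        _ = (t * x * t⁻¹)⁻¹ * t ^ 2 := by group
        _ = _ := by rw [h, inv_inv]))
  rw [mem_centralizer_singleton_iff.1 h2, mul_inv_cancel_right] at h
  have := orderOf_dvd_of_pow_eq_one (show x ^ 2 = 1 by rw [pow_two]; nth_rw 2 [h]; group)
  rw [hx] at this
  omega

theorem N6.real' [Finite G] (h : N6 G) {Γ : Type*} [Group Γ] (f : G →* Γ)
    (hf : Function.Surjective f) {x t : Γ} (hx : orderOf x = 3) (ht : t * x * t⁻¹ = x⁻¹) :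
    ∃ x t : G, orderOf x = 3 ∧ orderOf t = 2 ∧ t * x * t⁻¹ = x⁻¹ := by
  haveI := Fact.mk Nat.prime_three
  haveI : Finite Γ := Finite.of_surjective f hf
  obtain ⟨P, hP⟩ := exists_isSylowIn 3 ((zpowers x).comap f)
  obtain ⟨s, rfl⟩ := hf t
  have hs : s ∈ 𝐍((zpowers x).comap f) := mem_normalizer_of_cj_le fun y hy => by
    obtain ⟨a, ha, rfl⟩ := mem_cj'.1 hy
    obtain ⟨j, hj⟩ := mem_zpowers_iff.1 ha
    rw [mem_comap, map_mul, map_mul, map_inv, ← hj, ← conj_zpow, ht]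
    exact zpow_mem (inv_mem (mem_zpowers x)) _
  obtain ⟨k, hk, n, hn, rfl⟩ := hP.frattini hs
  have h1 : P ≠ ⊥ := hP.dvd_card_iff.1 (by
    obtain ⟨y, rfl⟩ := hf x
    exact (hx ▸ orderOf_map_dvd f y).trans (orderOf_dvd_natCard _ (mem_zpowers _)))
  have h2 : f n * x * (f n)⁻¹ = x⁻¹ := by
    obtain ⟨j, hj⟩ := mem_zpowers_iff.1 hk
    rw [map_mul, ← hj] at ht
    calc f n * x * (f n)⁻¹ = (x ^ j)⁻¹ * (x ^ j * f n * x * (x ^ j * f n)⁻¹) * x ^ j := by group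
      _ = _ := by rw [ht]; group
  obtain ⟨x', -, t', -, h3⟩ := h.real0 hP.2 h1 hn
    ((even_of_inv hx h2).trans (orderOf_map_dvd f n))
  exact ⟨x', t', h3⟩

theorem N6.real [Finite G] (h : N6 G) {H : Subgroup G} {Γ : Type*} [Group Γ] (f : H →* Γ)
    (hf : Function.Surjective f) {x t : Γ} (hx : orderOf x = 3) (ht : t * x * t⁻¹ = x⁻¹) :
    ∃ x ∈ H, ∃ t ∈ H, orderOf x = 3 ∧ orderOf t = 2 ∧ t * x * t⁻¹ = x⁻¹ := by
  obtain ⟨x', t', h1, h2, h3⟩ := (h.sub H).real' f hf hx ht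
  exact ⟨x', x'.2, t', t'.2, by rwa [orderOf_coe], by rwa [orderOf_coe], congrArg Subtype.val h3⟩

/-- an element of order prime to six centralizing a subgroup of index at most four -/
theorem cent_of_idx4 [Finite G] {R C : Subgroup G} (hR : IsPGroup 2 R) {y : G} {p : ℕ}
    (hp : p.Prime) (h5 : 5 ≤ p) (hy : y ^ p = 1) (hn : y ∈ 𝐍(R)) (hC : C ≤ R ⊓ centralizer {y})
    (h4 : Nat.card R ≤ 4 * Nat.card C) : R ≤ centralizer {y} := by
  haveI := Fact.mk hp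
  have e1 := H4.card_modEq_card_inf_centralizer (q := p) (k := 1) hn (by rwa [pow_one])
  have e2 := card_le_of_le hC
  obtain ⟨i, hi⟩ := card_dvd_of_le (inf_le_left : R ⊓ centralizer {y} ≤ R)
  have pos : 0 < Nat.card (R ⊓ centralizer {y} : Subgroup G) := Nat.card_pos
  have i4 : i ≤ 4 := by nlinarith
  have i0 : i ≠ 0 := by rintro rfl; exact Nat.card_pos.ne' (by simpa using hi)
  have cop : Nat.Coprime p (Nat.card (R ⊓ centralizer {y} : Subgroup G)) := by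
    obtain ⟨m, hm⟩ := IsPGroup.iff_card.1 (hR.to_le (inf_le_left : R ⊓ centralizer {y} ≤ R))
    rw [hm]
    exact Nat.Coprime.pow_right _ ((Nat.coprime_primes hp Nat.prime_two).2 (by omega))
  rw [hi] at e1
  have e3 : i ≡ 1 [MOD p] := Nat.ModEq.cancel_left_of_coprime cop (by rwa [mul_one])
  have e4 : i = 1 := by
    have := (Nat.modEq_iff_dvd' (by omega)).1 e3.symm
    have := Nat.eq_zero_of_dvd_of_lt this (by omega)
    omega
  rw [e4, mul_one] at hi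
  exact (eq_of_le_of_card_ge inf_le_left hi.le).ge.trans inf_le_right

end H51.N6
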